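import Groth.Agent.CohFinite.AmpleFinite
import Groth.Agent.CohFinite.Proper
import Groth.Agent.RefStalk.RankOne
import Groth.Agent.Purity.Chart
import Groth.Agent.RegLocus.Smooth
import Groth.Prelude.Def_Curv2
import Groth.Prelude.Def_Found
import Mathlib

/-!
A base admitting a regular alteration is N-1 and generically regular.
-/

set_option autoImplicit false
set_option backward.isDefEq.respectTransparency false
set_option maxHeartbeats 800000

universe u

open CategoryTheory AlgebraicGeometry TopologicalSpace Opposite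

noncomputable section

namespace Groth.Agent.AltN1

variable {A : Type u} [CommRing A] {X : Scheme.{u}} (f : X ⟶ Spec (CommRingCat.of A))

theorem toGlobal_injective [IsDomain A] [IsDominant f] (W : X.Opens) (hW : (W : Set X).Nonempty)
    [IsIntegral X] :
    Function.Injective fun a => X.presheaf.map (homOfLE (le_top : W ≤ ⊤)).op (Coh.toGlobal f a) := by
  haveI : Nonempty W := ⟨⟨_, hW.choose_spec⟩⟩
  refine (injective_iff_map_eq_zero ((X.presheaf.map (homOfLE (le_top : W ≤ ⊤)).op).hom.comp
    (Coh.toGlobal f))).mpr fun a ha => ?_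
  have h0 : Coh.toGlobal f a = 0 := by
    refine map_injective_of_isIntegral X (homOfLE (le_top : W ≤ ⊤)) ?_
    rw [map_zero]
    exact ha
  by_contra hne
  have hD : ((Spec (CommRingCat.of A)).basicOpen ((Scheme.ΓSpecIso (CommRingCat.of A)).inv a) :
      Set (Spec (CommRingCat.of A))).Nonempty := by
    rw [basicOpen_eq_of_affine]
    exact ⟨⟨⊥, Ideal.isPrime_bot⟩, show a ∉ (⊥ : Ideal A) by simpa using hne⟩
  obtain ⟨x, hx⟩ := f.denseRange.exists_mem_open (Opens.isOpen _) hD
  have h1 : x ∈ f ⁻¹ᵁ (Spec (CommRingCat.of A)).basicOpen ((Scheme.ΓSpecIso (CommRingCat.of A)).inv a) := hx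
  rw [Scheme.preimage_basicOpen] at h1
  rw [show f.app ⊤ ((Scheme.ΓSpecIso (CommRingCat.of A)).inv a) = 0 from h0, Scheme.basicOpen_zero] at h1
  exact h1

theorem finite_global [IsNoetherianRing A] [IsProper f] :
    letI : Algebra A Γ(X, ⊤) := (Coh.toGlobal f : A →+* Γ(X, ⊤)).toAlgebra
    Module.Finite A Γ(X, ⊤) := by
  letI : X.Over (Spec (CommRingCat.of A)) := ⟨f⟩
  haveI : IsProper (X ↘ Spec (CommRingCat.of A)) := ‹IsProper f›
  haveI : IsLocallyNoetherian X := LocallyOfFiniteType.isLocallyNoetherian f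
  have hfin := CohFinite.finite_proper A X (Coh.structureModule X) RefStalk.isCoh_structureModule 0
  obtain ⟨e, he⟩ := CohFinite.exists_zero_equiv A (Coh.structureModule X)
  letI : Algebra A Γ(X, ⊤) := (Coh.toGlobal f : A →+* Γ(X, ⊤)).toAlgebra
  let e' : Coh.HH X (Coh.structureModule X) 0 →ₗ[A] Γ(X, ⊤) :=
    { toFun := fun x => e x
      map_add' := fun x y => e.map_add x y
      map_smul' := fun a x => he a x }
  exact Module.Finite.of_surjective e' e.surjective

theorem mem_range_of_integral [IsIntegral X] [Nonempty (⊤ : X.Opens)] (hreg : ∀ x : X, IsRegularLocalRing (X.presheaf.stalk x))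
    (g : A →+* Γ(X, ⊤)) (y : X.functionField)
    (hy : ((X.germToFunctionField ⊤).hom.comp g).IsIntegralElem y) :
    ∃ s : Γ(X, ⊤), X.germToFunctionField ⊤ s = y := by
  classical
  let W : X → X.Opens := fun x => (exists_isAffineOpen_mem_and_subset (X := X) (x := x) (U := ⊤) trivial).choose
  have hW : ∀ x, IsAffineOpen (W x) ∧ x ∈ W x := fun x =>
    ⟨(exists_isAffineOpen_mem_and_subset (X := X) (x := x) (U := ⊤) trivial).choose_spec.1,
      (exists_isAffineOpen_mem_and_subset (X := X) (x := x) (U := ⊤) trivial).choose_spec.2.1⟩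
  have hex : ∀ x, ∃ s : Γ(X, W x), ∀ (O : X.Opens) (hO : O ≤ W x) [Nonempty O],
      X.germToFunctionField O (X.presheaf.map (homOfLE hO).op s) = y := by
    intro x
    haveI : Nonempty (W x) := ⟨⟨x, (hW x).2⟩⟩
    haveI : IsDomain Γ(X, W x) := inferInstance
    haveI := Purity.isIntegrallyClosed_chart hreg (hW x).1
    haveI := functionField_isFractionRing_of_isAffineOpen X (W x) (hW x).1
    have hcomp : (X.germToFunctionField ⊤).hom.comp g = (algebraMap Γ(X, W x) X.functionField).comp
        ((X.presheaf.map (homOfLE (le_top : W x ≤ ⊤)).op).hom.comp g) := by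
      ext a
      exact (TopCat.Presheaf.germ_res_apply _ (homOfLE (le_top : W x ≤ ⊤)) _ _ (g a)).symm
    have hint : IsIntegral Γ(X, W x) y := by
      obtain ⟨p, hp, hp0⟩ := hy
      refine ⟨p.map ((X.presheaf.map (homOfLE (le_top : W x ≤ ⊤)).op).hom.comp g), hp.map _, ?_⟩
      rw [Polynomial.eval₂_map, ← hcomp]
      exact hp0
    obtain ⟨s, hs⟩ := IsIntegrallyClosed.isIntegral_iff.mp hint
    refine ⟨s, fun O hO _ => ?_⟩
    rw [← hs]
    exact TopCat.Presheaf.germ_res_apply _ (homOfLE hO) _ _ s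
  choose s hs using hex
  obtain ⟨t, ht, -⟩ := TopCat.Sheaf.existsUnique_gluing' X.sheaf W ⊤ (fun x => homOfLE le_top)
    (fun x _ => Opens.mem_iSup.mpr ⟨x, (hW x).2⟩) s (fun x x' => by
      by_cases hne : Nonempty (W x ⊓ W x' : X.Opens)
      · haveI := hne
        exact X.germToFunctionField_injective (W x ⊓ W x')
          ((hs x _ inf_le_left).trans (hs x' _ inf_le_right).symm)
      · skip
        exact TopCat.Presheaf.section_ext X.sheaf _ _ _ fun z hz => (hne ⟨⟨z, hz⟩⟩).elim)
  refine ⟨t, ?_⟩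
  let x₀ := genericPoint X
  haveI : Nonempty (W x₀) := ⟨⟨x₀, (hW x₀).2⟩⟩
  refine Eq.trans ?_ (hs x₀ (W x₀) le_rfl)
  rw [← ht x₀]
  exact (TopCat.Presheaf.germ_res_apply _ (homOfLE (le_top : W x₀ ≤ ⊤)) _ _ t).symm.trans
    (TopCat.Presheaf.germ_res_apply _ (homOfLE (le_refl (W x₀))) _ _ _).symm

theorem isN1 [IsDomain A] [IsNoetherianRing A] [IsProper f] [IsDominant f] [IsIntegral X]
    (hreg : ∀ x : X, IsRegularLocalRing (X.presheaf.stalk x)) : CAlg.IsN1 A := by
  haveI : Nonempty (⊤ : X.Opens) := ⟨⟨genericPoint X, trivial⟩⟩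
  let g : A →+* Γ(X, ⊤) := Coh.toGlobal f
  let j : A →+* X.functionField := (X.germToFunctionField ⊤).hom.comp g
  letI : Algebra A Γ(X, ⊤) := g.toAlgebra
  haveI : Module.Finite A Γ(X, ⊤) := finite_global f
  have hg : Function.Injective g := by
    intro a b hab
    refine toGlobal_injective f ⊤ ⟨genericPoint X, trivial⟩ ?_
    exact congrArg _ hab
  have hj : Function.Injective j := (X.germToFunctionField_injective ⊤).comp hg
  let L : FractionRing A →+* X.functionField := IsFractionRing.lift hj
  have hL : ∀ a, L (algebraMap A (FractionRing A) a) = j a := fun a => IsFractionRing.lift_algebraMap hj a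
  letI : Algebra A X.functionField := j.toAlgebra
  let Lₐ : FractionRing A →ₐ[A] X.functionField := ⟨L, hL⟩
  let B : Submodule A X.functionField :=
    LinearMap.range (AlgHom.mk (X.germToFunctionField ⊤).hom (fun _ => rfl) : Γ(X, ⊤) →ₐ[A] X.functionField).toLinearMap
  haveI : Module.Finite A B := Module.Finite.range _
  let φ : integralClosure A (FractionRing A) →ₗ[A] B :=
    LinearMap.codRestrict B (Lₐ.toLinearMap.comp (integralClosure A (FractionRing A)).val.toLinearMap) fun z => by
      obtain ⟨s, hs⟩ := mem_range_of_integral hreg g (Lₐ z.1) (z.2.map Lₐ)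
      exact ⟨s, hs⟩
  exact Module.Finite.of_injective φ fun z z' h =>
    Subtype.ext (L.injective (congrArg Subtype.val h))

theorem exists_regular_open [IsDomain A] [IsNoetherianRing A] [IsProper f] [IsDominant f] [IsIntegral X]
    (hreg : ∀ x : X, IsRegularLocalRing (X.presheaf.stalk x)) :
    ∃ U : (Spec (CommRingCat.of A)).Opens, (U : Set (Spec (CommRingCat.of A))).Nonempty ∧
      ∀ y ∈ U, IsRegularLocalRing ((Spec (CommRingCat.of A)).presheaf.stalk y) := by
  obtain ⟨W, hW, hxW, -⟩ := exists_isAffineOpen_mem_and_subset (X := X) (x := genericPoint X) (U := ⊤) trivial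
  haveI : Nonempty W := ⟨⟨_, hxW⟩⟩
  let g : A →+* Γ(X, W) := (X.presheaf.map (homOfLE (le_top : W ≤ ⊤)).op).hom.comp (Coh.toGlobal f)
  letI : Algebra A Γ(X, W) := g.toAlgebra
  haveI : Algebra.FiniteType A Γ(X, W) := by
    have h1 := f.finiteType_appLE (isAffineOpen_top (Spec (CommRingCat.of A))) hW (by simp)
    exact h1.comp (RingHom.FiniteType.of_surjective _
      (Scheme.ΓSpecIso (CommRingCat.of A)).commRingCatIsoToRingEquiv.symm.surjective)
  obtain ⟨a, ha, hareg⟩ := RegLocus.exists_regular_of_finiteType (R := A) (S := Γ(X, W))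
    (toGlobal_injective f W ⟨_, hxW⟩) one_ne_zero
    fun Q _ => (by
      haveI := Q.2
      exact Purity.isRegularLocalRing_chart hreg hW Q.asIdeal)
  refine ⟨PrimeSpectrum.basicOpen a, ⟨⟨⊥, Ideal.isPrime_bot⟩, show a ∉ (⊥ : Ideal A) by simpa using ha⟩, fun y hy => ?_⟩
  have h := hareg y hy
  have : IsLocalization.AtPrime ((Spec.structureSheaf A).presheaf.stalk y) y.asIdeal := inferInstance
  haveI : IsRegularLocalRing (Localization.AtPrime y.asIdeal) := h
  exact IsRegularLocalRing.of_ringEquiv (IsLocalization.algEquiv y.asIdeal.primeCompl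
    (Localization.AtPrime y.asIdeal) ((Spec.structureSheaf A).presheaf.stalk y)).toRingEquiv

end Groth.Agent.AltN1
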